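import Groth.Agent.H73.IdealEnd.Basic
import Groth.Agent.H18.ExtIdeal
import Groth.Agent.H97.EulerFinite
import Groth.Agent.Lib.SurfInt.Surface
import Groth.Agent.Lib.Secant92.Fin
import Groth.Agent.Lib.ShStab.SubLattice
import Groth.Agent.H34.CohFlat0.Family
import Groth.Agent.H25.SepNode.Split
import Groth.Agent.Lib.Ample.Pullback
import Groth.Prelude.Def_Mor2

/-!
# Maps between ideal sheaves
-/

set_option autoImplicit false
set_option linter.style.haveILetI false
universe u

noncomputable section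

open CategoryTheory CategoryTheory.Limits AlgebraicGeometry TopologicalSpace

namespace Groth.Agent.H53IdHom

open Groth.Agent.Lib

variable {X : Scheme.{u}}

/-- A monomorphism from a quasi-coherent module into `O_X` is an ideal sheaf. -/
theorem exists_ideal_of_mono [IsLocallyNoetherian X] {M : X.Modules} [M.IsQuasicoherent]
    (ψ : M ⟶ Coh.structureModule X) [Mono ψ] :
    ∃ (J : X.IdealSheafData) (e : M ≅ _root_.ClSub.idealMod J), e.hom ≫ _root_.ClSub.idealModι J = ψ := by
  haveI : (Coh.structureModule X).IsQuasicoherent := TensorMod.QCohInv.isQCoh_structureModule X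
  let J := Modules.ZeroLocus.idealSheaf ψ H18.ExtIdeal.isFinLocFree_structure
  have hJrange : ∀ (U : X.affineOpens) (r : Γ(X, U.1)), r ∈ J.ideal U → ∃ s, ψ.app U.1 s = r := by
    intro U r hr
    change r ∈ Ideal.span (Modules.ZeroLocus.vals ψ U.1) at hr
    refine Submodule.span_induction (p := fun r _ => ∃ s, ψ.app U.1 s = r) ?_ ⟨0, map_zero _⟩ ?_ ?_ hr
    · rintro _ ⟨θ, s, rfl⟩
      refine ⟨θ (1 : Γ(X, U.1)) • s, ?_⟩
      rw [Scheme.Modules.Hom.app_smul]
      refine Eq.trans ?_ (congrArg θ (mul_one (show Γ(X, U.1) from ψ.app U.1 s)))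
      exact (mul_comm _ _).trans (map_smul θ (show Γ(X, U.1) from ψ.app U.1 s) (1 : Γ(X, U.1))).symm
    · rintro p q - - ⟨s, rfl⟩ ⟨t, rfl⟩
      exact ⟨s + t, map_add _ _ _⟩
    · rintro c p - ⟨s, rfl⟩
      exact ⟨c • s, Scheme.Modules.Hom.app_smul _ _ _⟩
  have hmemJ : ∀ (U : X.affineOpens) (s : Γ(M, U.1)), (show Γ(X, U.1) from ψ.app U.1 s) ∈ J.ideal U :=
    fun U s => Ideal.subset_span (show _ ∈ Modules.ZeroLocus.vals ψ U.1 from ⟨LinearMap.id, s, rfl⟩)
  have h0 : ψ ≫ _root_.ClSub.toSubscheme J = 0 := by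
    refine Modules.AffineHom.hom_ext_affine fun U s => ?_
    rw [Scheme.Modules.Hom.comp_app, Scheme.Modules.Hom.zero_app]
    show (_root_.ClSub.toSubscheme J).app U.1 (ψ.app U.1 s) = 0
    show (J.subschemeι.app U.1).hom (show Γ(X, U.1) from ψ.app U.1 s) = 0
    rw [← RingHom.mem_ker]
    erw [J.ker_subschemeι_app U]
    exact hmemJ U s
  let b : M ⟶ _root_.ClSub.idealMod J := kernel.lift _ ψ h0
  have hb : b ≫ _root_.ClSub.idealModι J = ψ := kernel.lift_ι _ _ _
  haveI : Mono b := by
    haveI : Mono (b ≫ _root_.ClSub.idealModι J) := by rw [hb]; infer_instance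
    exact mono_of_mono b (_root_.ClSub.idealModι J)
  haveI : Epi b := by
    refine (Modules.StalkModule.epi_iff_stalkMapₗ_surjective b).2 fun x v => ?_
    obtain ⟨U, hU, hxU, n, rfl⟩ := H18.ExtIdeal.exists_affine_germ v
    obtain ⟨s, hs⟩ := hJrange ⟨U, hU⟩ _
      ((ClSub.Sections.mem_range_idealModι_app_affine_iff J ⟨U, hU⟩ _).1 ⟨n, rfl⟩)
    refine ⟨M.presheaf.germ U x hxU s, ?_⟩
    refine (Modules.StalkModule.stalkMapₗ_germ _ hxU s).trans ?_
    refine congrArg _ (ClSub.Sections.idealModι_app_injective J U ?_)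
    show (b ≫ _root_.ClSub.idealModι J).app U s = _
    rw [hb]
    exact hs
  haveI : IsIso b := isIso_of_mono_of_epi b
  exact ⟨J, asIso b, hb⟩

/-- A nonzero map from an ideal module to `O_X` is injective on an integral scheme. -/
theorem mono_of_ne_zero [IsIntegral X] [IsLocallyNoetherian X] {W : X.IdealSheafData} (hW : W ≠ ⊥)
    (ψ : _root_.ClSub.idealMod W ⟶ Coh.structureModule X) (hψ : ψ ≠ 0) : Mono ψ := by
  open Groth.Agent.Lib.RefHull Groth.Agent.Lib.RefHull.Generic in
  have hO := Group.isRef1_structure (X := X)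
  have hinjO := toGen_injective_of_isReflexive hO.1 hO.2.1
  haveI : Mono (_root_.ClSub.idealModι W) := inferInstanceAs (Mono (kernel.ι _))
  have hinjI : ∀ x : X, Function.Injective (RefHull.Generic.toGen (_root_.ClSub.idealMod W) x) := fun x =>
    H18.ExtIdeal.toGen_injective_of_mono (_root_.ClSub.idealModι W) x (hinjO x)
  let η := genericPoint X
  let e := LinearEquiv.ofBijective _ (H18.ExtIdeal.bijective_idealModι W
    (H73.IdealEnd.genericPoint_not_mem_support hW))
  have hηinj : Function.Injective (RefHull.stalkMapₗ ψ η) := by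
    let v₁ : (_root_.ClSub.idealMod W).presheaf.stalk η :=
      e.symm (AssPt.Basic.unitStalkEquiv η (1 : X.presheaf.stalk η))
    have hsp : ∀ a, ∃ c : X.presheaf.stalk η, c • v₁ = a := fun a => by
      obtain ⟨c, hc⟩ := (AssPt.Basic.unitStalkEquiv η).surjective (e a)
      exact ⟨c, e.injective (by rw [map_smul, LinearEquiv.apply_symm_apply, ← map_smul, smul_eq_mul, mul_one, hc])⟩
    have hv₁ : RefHull.stalkMapₗ ψ η v₁ ≠ 0 := fun h => hψ (by
      refine RefHull.Generic.hom_ext hinjO (LinearMap.ext fun a => ?_)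
      obtain ⟨c, rfl⟩ := hsp a
      rw [map_smul, h, smul_zero]
      exact (LinearMap.congr_fun (Modules.StalkModule.stalkMapₗ_zero (M := _root_.ClSub.idealMod W) η) _).symm)
    refine (injective_iff_map_eq_zero _).2 fun a ha => ?_
    obtain ⟨c, rfl⟩ := hsp a
    rw [map_smul] at ha
    obtain ⟨d, hd⟩ := (AssPt.Basic.unitStalkEquiv η).surjective (RefHull.stalkMapₗ ψ η v₁)
    rw [← hd, ← map_smul, LinearEquiv.map_eq_zero_iff, smul_eq_mul] at ha
    rcases mul_eq_zero.1 ha with rfl | h
    · rw [zero_smul]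
    · exact absurd (hd.symm.trans (by rw [h, map_zero])) hv₁
  refine (Modules.StalkModule.mono_iff_stalkMapₗ_injective ψ).2 fun x p q hpq => hinjI x (hηinj ?_)
  rw [← RefHull.Generic.toGen_stalkMap, ← RefHull.Generic.toGen_stalkMap]
  exact congrArg _ hpq

theorem eq_zero_of_map_eqToHom {Y : Scheme.{u}} {A : CommRingCat.{u}} {U V : Y.Opens} (e : V = U)
    (g : A ⟶ Γ(Y, U)) (x : A) (h : (g ≫ Y.presheaf.map (eqToHom e).op) x = 0) : g x = 0 := by
  subst e
  simpa using h

/-- Maps into the bigger ideal that die on the smaller closed subscheme, measured on the difference. -/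
theorem exists_residual {J Z : X.IdealSheafData} (h : J ≤ Z) :
    ∃ r : _root_.ClSub.idealMod Z ⟶
        (Coh.push J.subschemeι).obj (_root_.ClSub.idealMod (Scheme.IdealSheafData.inclusion h).ker),
      ∀ (T : X.Modules) (t : T ⟶ _root_.ClSub.idealMod Z), t ≫ r = 0 →
        ∃ t' : T ⟶ _root_.ClSub.idealMod J, t' ≫ H25.SepNode.Split.incl h = t := by
  let k := Scheme.IdealSheafData.inclusion h
  let ι := J.subschemeι
  haveI : (Coh.push ι).Additive := inferInstanceAs (Scheme.Modules.pushforward ι).Additive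
  haveI : PreservesLimitsOfSize.{0, 0} (Scheme.Modules.pushforward ι) :=
    (Scheme.Modules.pullbackPushforwardAdjunction ι).rightAdjoint_preservesLimits
  let q := _root_.ClSub.idealModι Z ≫ _root_.ClSub.toSubscheme J
  have hq : q ≫ (Scheme.Modules.pushforward ι).map (_root_.ClSub.toSubscheme k.ker) = 0 := by
    refine Modules.AffineHom.hom_ext_affine fun U s => ?_
    rw [Scheme.Modules.Hom.comp_app, Scheme.Modules.Hom.zero_app]
    change (k.ker.subschemeι.app (ι ⁻¹ᵁ U.1)).hom ((ι.app U.1).hom
      (show Γ(X, U.1) from (_root_.ClSub.idealModι Z).app U.1 s)) = 0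
    rw [← RingHom.mem_ker]
    erw [k.ker.ker_subschemeι_app ⟨ι ⁻¹ᵁ U.1, U.2.preimage ι⟩]
    rw [Scheme.Hom.ker_apply, RingHom.mem_ker]
    have h0 := (ClSub.Sections.mem_range_idealModι_app_iff Z U.1
      (show Γ(X, U.1) from (_root_.ClSub.idealModι Z).app U.1 s)).1 ⟨s, rfl⟩
    rw [Scheme.Hom.congr_app (Scheme.IdealSheafData.inclusion_subschemeι h).symm U.1] at h0
    exact eq_zero_of_map_eqToHom _ _ _ h0
  let L := KernelFork.IsLimit.lift' (KernelFork.mapIsLimit _ (kernelIsKernel (_root_.ClSub.toSubscheme k.ker))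
    (Scheme.Modules.pushforward ι)) q hq
  refine ⟨L.1, fun T t ht => ?_⟩
  have h0 : (t ≫ _root_.ClSub.idealModι Z) ≫ _root_.ClSub.toSubscheme J = 0 := by
    have e : t ≫ q = 0 := by
      rw [← L.2]
      exact (Category.assoc _ _ _).symm.trans ((congrArg (· ≫ _) ht).trans zero_comp)
    rw [Category.assoc]
    exact e
  refine ⟨kernel.lift _ _ h0, ?_⟩
  haveI : Mono (_root_.ClSub.idealModι Z) := inferInstanceAs (Mono (kernel.ι _))
  rw [← cancel_mono (_root_.ClSub.idealModι Z), Category.assoc, H25.SepNode.Split.incl_ι]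
  exact kernel.lift_ι _ _ _

variable {k : Type u} [Field k] [X.Over (Spec (CommRingCat.of k))]

/-- Global functions compute the Euler characteristic of a finite scheme. -/
theorem euler_finite {T : Scheme.{u}} [T.Over (Spec (CommRingCat.of k))] [IsProper (T ↘ Spec (CommRingCat.of k))]
    [IsFinite (T ↘ Spec (CommRingCat.of k))] :
    Curv2.euler k T (Coh.structureModule T) = Secant92.Fin.dim (T ↘ Spec (CommRingCat.of k)) := by
  haveI := Curves.GlobalSections.isNoetherian_of_proper k T
  haveI : IsAffine T := isAffine_of_isAffineHom (T ↘ Spec (CommRingCat.of k))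
  haveI := TensorMod.QCohInv.isQCoh_structureModule T
  have h : ∀ n, n ≠ 0 → Subsingleton (Coh.HH T (Coh.structureModule T) n) := fun n hn => by
    haveI : JacobsonSpace T := LocallyOfFiniteType.jacobsonSpace (T ↘ Spec (CommRingCat.of k))
    haveI : Finite T := Set.finite_univ_iff.1 (((T ↘ Spec (CommRingCat.of k)).finite_preimage_singleton
      (IsLocalRing.closedPoint k)).subset fun x _ => Subsingleton.elim _ _)
    exact Snapper.Chi.subsingleton_HH_of_lt (d := 0)
      (by exact_mod_cast topologicalKrullDim_zero_of_discreteTopology T) _ (Nat.pos_of_ne_zero hn)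
  unfold Curv2.euler
  rw [finsum_eq_single _ 0 fun n hn => by
    haveI := h n hn
    rw [Module.finrank_zero_of_subsingleton, Nat.cast_zero, mul_zero]]
  rw [pow_zero, one_mul, H34.CohFlat0.finrank_HH_zero]
  rfl

/-- The Hilbert polynomial of the ideal of a finite closed subscheme. -/
theorem isHilbPoly_ideal [IsProper (X ↘ Spec (CommRingCat.of k))] {L : X.Modules} (hL : CohB1.IsAmple L)
    (I : X.IdealSheafData) (hI : IsFinite (I.subschemeι ≫ X ↘ Spec (CommRingCat.of k))) :
    ∃ P, ShStab.IsHilbPoly k X L (Coh.structureModule X) P ∧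
      ShStab.IsHilbPoly k X L (_root_.ClSub.idealMod I)
        (P - Polynomial.C ((Secant92.Fin.len (X ↘ Spec (CommRingCat.of k)) I : ℕ) : ℚ)) := by
  haveI := Curves.GlobalSections.isNoetherian_of_proper k X
  have hO := Snapper.Twist.isCoh_structureModule X
  have hq : Coh.IsCoh (_root_.ClSub.quotMod I) := Devissage.Closure.isCoh_push_structureModule I.subschemeι
  have hP : ShStab.IsHilbPoly k X L (_root_.ClSub.quotMod I)
      (Polynomial.C ((Secant92.Fin.len (X ↘ Spec (CommRingCat.of k)) I : ℕ) : ℚ)) := by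
    intro m
    rw [Polynomial.eval_C]
    have hM := TensorMod.Invertible.isInvertible_tensorPow (Ample.Pow.isAmple_iff.1 hL).1 m
    have hcl : ∀ y ∈ CohB1.support (_root_.ClSub.quotMod I), IsClosed ({y} : Set X) := by
      intro y hy
      rw [ClSub.Quot.support_quotMod] at hy
      rw [← Scheme.IdealSheafData.range_subschemeι] at hy
      obtain ⟨t, rfl⟩ := hy
      haveI : JacobsonSpace I.subscheme :=
        LocallyOfFiniteType.jacobsonSpace (I.subschemeι ≫ X ↘ Spec (CommRingCat.of k))
      haveI : Finite I.subscheme := Set.finite_univ_iff.1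
        (((I.subschemeι ≫ X ↘ Spec (CommRingCat.of k)).finite_preimage_singleton
          (IsLocalRing.closedPoint k)).subset fun x _ => Subsingleton.elim _ _)
      simpa using I.subschemeι.isClosedEmbedding.isClosedMap {t} (isClosed_discrete _)
    have h1 := H97.EulerFinite.euler_tensor (k := k) (TensorMod.LocFree.of_isInvertible hM) hq hcl
    letI := SurfInt.Surface.overSub (k := k) I
    haveI : IsFinite (I.subscheme ↘ Spec (CommRingCat.of k)) := hI
    have h2 := (SurfInt.Surface.euler_quot (k := k) I).trans (euler_finite (k := k) (T := I.subscheme))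
    rw [show ShStab.twist X L (_root_.ClSub.quotMod I) m =
      CohB1.tensorMod (_root_.ClSub.quotMod I) (CohB1.tensorPow L m) from rfl,
      Curves.Euler.euler_eq_of_iso (TensorMod.Basic.comm _ _), h1, h2, Nat.cast_one, one_mul]
    rfl
  refine ⟨_, ShStab.SubLattice.isHilbPoly_hp k hL hO, ?_⟩
  have hIc := TFNodal.Enlarge.isCoh_idealMod I
  haveI : Mono (_root_.ClSub.idealModι I) := inferInstanceAs (Mono (kernel.ι _))
  haveI : Epi (_root_.ClSub.toSubscheme I) := ClSub.Quot.epi_toSubscheme I
  have h3 := ShStab.SubLattice.hp_add k hL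
    (S := ShortComplex.mk (_root_.ClSub.idealModι I) (_root_.ClSub.toSubscheme I) (kernel.condition _))
    { exact := ShortComplex.exact_kernel _ } hIc hO hq
  have h4 := ShStab.SubLattice.isHilbPoly_hp k hL hIc
  rw [show ShStab.SubLattice.hp k L (Coh.structureModule X) =
    ShStab.SubLattice.hp k L (_root_.ClSub.idealMod I) + ShStab.SubLattice.hp k L (_root_.ClSub.quotMod I) from h3,
    ShStab.SubLattice.hp_eq k L hP, add_sub_cancel_right]
  exact h4

end Groth.Agent.H53IdHom
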