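import Groth.Agent.H53IdHom.Basic
import Groth.Agent.Lib.Curves.SubUnionConst
import Groth.Agent.Lib.ParaF.Pair
import Groth.Agent.H3.Scalars
import Groth.Agent.Lib.AffineCompl.Dim
import Groth.Agent.Lib.Cyc.SmoothReg
import Groth.Prelude.Def_DCoh4

/-!
# Torsion-free sheaves with trivial hull and the Hilbert polynomial of an ideal of points
-/

set_option autoImplicit false
set_option linter.style.haveILetI false
universe u

noncomputable section

open CategoryTheory CategoryTheory.Limits AlgebraicGeometry TopologicalSpace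

namespace Groth.Agent.H53IdHom

open Groth.Agent.Lib Groth.Agent.Lib.RefHull Groth.Agent.Lib.RefHull.Generic

variable {X : Scheme.{u}}

/-- A sheaf with nonzero double dual has a nonzero form. -/
theorem exists_ne_zero_to_bidual (F : X.Modules) [DCoh.HasSheafHom F]
    [DCoh.HasSheafHom ((DCoh.sheafHom F).obj (Coh.structureModule X))]
    (h : ¬ IsZero ((DCoh.sheafHom ((DCoh.sheafHom F).obj (Coh.structureModule X))).obj (Coh.structureModule X))) :
    ∃ ψ : F ⟶ (DCoh.sheafHom ((DCoh.sheafHom F).obj (Coh.structureModule X))).obj (Coh.structureModule X), ψ ≠ 0 := by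
  set D := (DCoh.sheafHom F).obj (Coh.structureModule X)
  let c : CohB1.tensorMod F D ⟶ Coh.structureModule X := (DCoh.sheafHomAdj F).counit.app _
  refine ⟨((DCoh.sheafHomAdj D).homEquiv F _) ((TensorMod.Basic.comm D F).hom ≫ c), fun hψ => h ?_⟩
  haveI : (DCoh.tensorBi (X := X) |>.obj D).Additive := inferInstance
  haveI : (DCoh.tensorBi (X := X) |>.obj F).Additive := inferInstance
  have h1 : (TensorMod.Basic.comm D F).hom ≫ c = 0 := by
    have h2 := congrArg ((DCoh.sheafHomAdj D).homEquiv F (Coh.structureModule X)).symm hψ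
    rw [Equiv.symm_apply_apply, Adjunction.homEquiv_counit, Functor.map_zero, zero_comp] at h2
    exact h2
  have hc : c = 0 := (cancel_epi (TensorMod.Basic.comm D F).hom).1 (h1.trans comp_zero.symm)
  have hD : IsZero D := (IsZero.iff_id_eq_zero D).2 <| by
    apply ((DCoh.sheafHomAdj F).homEquiv D (Coh.structureModule X)).symm.injective
    rw [Adjunction.homEquiv_counit, Adjunction.homEquiv_counit, CategoryTheory.Functor.map_id, Functor.map_zero,
      zero_comp, Category.id_comp]
    exact hc
  set E := (DCoh.sheafHom D).obj (Coh.structureModule X)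
  refine (IsZero.iff_id_eq_zero E).2 (((DCoh.sheafHomAdj D).homEquiv E _).symm.injective ?_)
  refine IsZero.eq_of_src ?_ _ _
  exact IsZero.of_iso ((DCoh.tensorBi (X := X) |>.obj E).map_isZero hD) (TensorMod.Basic.comm D E)

/-- A nonzero coherent module with torsion-free stalks on an integral scheme has full support. -/
theorem support_eq_univ [IsIntegral X] {M : X.Modules} (hM : Coh.IsCoh M) (h0 : ¬ IsZero M)
    (hinj : ∀ x, Function.Injective (toGen M x)) : CohB1.support M = Set.univ := by
  haveI := hM.2
  have hη : genericPoint X ∈ CohB1.support M := fun hs => h0 <| by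
    refine Modules.Support.support_eq_empty_iff.1 (Set.eq_empty_iff_forall_notMem.2 fun x hx => hx ?_)
    exact (hinj x).subsingleton
  refine Set.univ_subset_iff.1 ?_
  rw [← (genericPoint_spec X).def]
  exact (Modules.Support.isClosed_support M).closure_subset_iff.2 (Set.singleton_subset_iff.2 hη)

/-- A closed subset of dimension zero of a proper scheme over a field is finite. -/
theorem finite_of_dim_zero {k : Type u} [Field k] (f : X ⟶ Spec (CommRingCat.of k)) [IsProper f] {T : Set X}
    (hT : IsClosed T) (hd : topologicalKrullDim T ≤ 0) : T.Finite := by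
  let I := Scheme.IdealSheafData.vanishingIdeal ⟨T, hT⟩
  haveI : IsNoetherian I.subscheme :=
    letI : I.subscheme.Over (Spec (CommRingCat.of k)) := ⟨I.subschemeι ≫ f⟩
    haveI : IsProper (I.subscheme ↘ Spec (CommRingCat.of k)) := inferInstanceAs (IsProper (I.subschemeι ≫ f))
    Curves.GlobalSections.isNoetherian_of_proper k I.subscheme
  have hdim : topologicalKrullDim I.subscheme ≤ 0 := by
    have e : (I.support : Set X) = T := by simp [I, Scheme.IdealSheafData.coe_support_vanishingIdeal]
    rw [SurfInt.Surface.dim_subscheme, e]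
    exact hd
  haveI : Finite I.subscheme := by
    have hmax : ∀ Z : IrreducibleCloseds I.subscheme, IsMax Z := Order.krullDim_nonpos_iff_forall_isMax.mp hdim
    have hx : ∀ x : I.subscheme, irreducibleComponent x = closure {x} := fun x => by
      let C : IrreducibleCloseds I.subscheme := ⟨irreducibleComponent x, isIrreducible_irreducibleComponent, isClosed_irreducibleComponent⟩
      let P : IrreducibleCloseds I.subscheme := ⟨closure {x}, isIrreducible_singleton.closure, isClosed_closure⟩
      have hle : P ≤ C := isClosed_irreducibleComponent.closure_subset_iff.2 (Set.singleton_subset_iff.2 mem_irreducibleComponent)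
      exact Set.Subset.antisymm (hmax P hle) hle
    haveI := (NoetherianSpace.finite_irreducibleComponents (α := I.subscheme)).to_subtype
    refine Finite.of_injective (fun x : I.subscheme => (⟨irreducibleComponent x,
      irreducibleComponent_mem_irreducibleComponents x⟩ : irreducibleComponents I.subscheme)) fun x y h => ?_
    have h' : irreducibleComponent x = irreducibleComponent y := congrArg Subtype.val h
    rw [hx, hx] at h'
    exact (inseparable_iff_closure_eq.2 h').eq
  have e : Set.range I.subschemeι = T := by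
    rw [Scheme.IdealSheafData.range_subschemeι]
    simp [I, Scheme.IdealSheafData.coe_support_vanishingIdeal]
  rw [← e]
  exact Set.finite_range _

variable {k : Type u} [Field k] [X.Over (Spec (CommRingCat.of k))] [IsProper (X ↘ Spec (CommRingCat.of k))]

/-- Hilbert polynomial of the structure sheaf modulo an ideal. -/
theorem hp_ideal_add_quot {L : X.Modules} (hL : CohB1.IsAmple L) (I : X.IdealSheafData) :
    ShStab.SubLattice.hp k L (Coh.structureModule X) =
      ShStab.SubLattice.hp k L (_root_.ClSub.idealMod I) + ShStab.SubLattice.hp k L (_root_.ClSub.quotMod I) := by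
  haveI := Curves.GlobalSections.isNoetherian_of_proper k X
  haveI : Mono (_root_.ClSub.idealModι I) := inferInstanceAs (Mono (kernel.ι _))
  haveI : Epi (_root_.ClSub.toSubscheme I) := ClSub.Quot.epi_toSubscheme I
  exact ShStab.SubLattice.hp_add k hL
    (S := ShortComplex.mk (_root_.ClSub.idealModι I) (_root_.ClSub.toSubscheme I) (kernel.condition _))
    { exact := ShortComplex.exact_kernel _ } (TFNodal.Enlarge.isCoh_idealMod I)
    (Snapper.Twist.isCoh_structureModule X) (Devissage.Closure.isCoh_push_structureModule I.subschemeι)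

/-- A quotient of `O_X` with constant Hilbert polynomial is finite, of that length. -/
theorem finite_of_hp_quot {L : X.Modules} (hL : CohB1.IsAmple L) (I : X.IdealSheafData) (n : ℕ)
    (h : ShStab.SubLattice.hp k L (_root_.ClSub.quotMod I) = Polynomial.C (n : ℚ)) :
    IsFinite (I.subschemeι ≫ X ↘ Spec (CommRingCat.of k)) ∧
      Secant92.Fin.len (X ↘ Spec (CommRingCat.of k)) I = n := by
  haveI := Curves.GlobalSections.isNoetherian_of_proper k X
  have hq : Coh.IsCoh (_root_.ClSub.quotMod I) := Devissage.Closure.isCoh_push_structureModule I.subschemeι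
  have hfinS : (I.support : Set X).Finite := by
    rw [← ClSub.Quot.support_quotMod]
    by_cases h0 : IsZero (_root_.ClSub.quotMod I)
    · rw [Modules.Support.support_eq_empty_iff.2 h0]
      exact Set.finite_empty
    obtain ⟨D, hD⟩ := ShStab.HilbPoly.exists_dim k hq h0
    have h1 := (ShStab.HilbPoly.spec hL hq h0 (ShStab.SubLattice.isHilbPoly_hp k hL hq) hD).1
    rw [h, Polynomial.natDegree_C] at h1
    haveI := hq.2
    refine finite_of_dim_zero (X ↘ Spec (CommRingCat.of k)) (Modules.Support.isClosed_support _) ?_
    rw [hD, ← h1]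
    rfl
  have hfin := Secant92.Fin.isFin_of_finite (f := X ↘ Spec (CommRingCat.of k)) hfinS
  obtain ⟨P, hP, hP'⟩ := isHilbPoly_ideal (k := k) hL I hfin
  have h2 := hp_ideal_add_quot (k := k) hL I
  rw [ShStab.SubLattice.hp_eq k L hP, ShStab.SubLattice.hp_eq k L hP', h, sub_add_eq_add_sub,
    eq_sub_iff_add_eq, add_left_cancel_iff, Polynomial.C_inj, Nat.cast_inj] at h2
  exact ⟨hfin, h2⟩

/-- Ideals of finite closed subschemes with isomorphic ideal modules coincide, in dimension at least two. -/
theorem eq_of_iso [IsIntegral X] [Smooth (X ↘ Spec (CommRingCat.of k))]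
    [GeometricallyIrreducible (X ↘ Spec (CommRingCat.of k))] (hdim : 2 ≤ topologicalKrullDim X)
    {Z Z' : X.IdealSheafData} (hZ : (Z.support : Set X).Finite) (hne : Z ≠ ⊥)
    (hcl : ∀ x ∈ (Z.support : Set X), IsClosed ({x} : Set X))
    (e : _root_.ClSub.idealMod Z ≅ _root_.ClSub.idealMod Z') : Z = Z' := by
  haveI := Curves.GlobalSections.isNoetherian_of_proper k X
  haveI : LocallyOfFiniteType (X ↘ Spec (CommRingCat.of k)) := inferInstance
  have hreg := fun x : X => Cyc.SmoothReg.isRegularLocalRing_stalk (X ↘ Spec (CommRingCat.of k)) x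
  have hX := ExtHull.isNormal hreg
  have hO := Group.isRef1_structure (X := X)
  have hinjO := toGen_injective_of_isReflexive hO.1 hO.2.1
  let η := genericPoint X
  let eη := LinearEquiv.ofBijective _ (H18.ExtIdeal.bijective_idealModι Z
    (H73.IdealEnd.genericPoint_not_mem_support hne))
  let ψ := e.hom ≫ _root_.ClSub.idealModι Z'
  let T := (RefHull.stalkMapₗ ψ η).comp eη.symm.toLinearMap
  have hT : ∀ (x : X) (v : (Coh.structureModule X).presheaf.stalk x),
      ∃ w, toGen (Coh.structureModule X) x w = T (toGen (Coh.structureModule X) x v) := by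
    intro x v
    refine mem_range_toGen hX hO.1 ((Reflexive.isReflexive_iff_forall hO.1).mp hO.2.1 x) _ fun y hyx hy => ?_
    have hyZ : y ∉ (Z.support : Set X) := fun hm => by
      have h2 := AffineCompl.Dim.ringKrullDim_stalk_of_isClosed (X ↘ Spec (CommRingCat.of k)) (hcl y hm)
      rw [hy] at h2
      rw [← h2] at hdim
      exact absurd hdim (by decide)
    let v' := ((Coh.structureModule X).presheaf.stalkSpecializes hyx).hom v
    obtain ⟨u, hu⟩ := (H18.ExtIdeal.bijective_idealModι Z hyZ).2 v'
    refine ⟨RefHull.stalkMapₗ ψ y u, ?_⟩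
    have h1 : eη.symm (toGen (Coh.structureModule X) x v) = toGen (_root_.ClSub.idealMod Z) y u := by
      rw [LinearEquiv.symm_apply_eq]
      show toGen (Coh.structureModule X) x v = RefHull.stalkMapₗ (_root_.ClSub.idealModι Z) η (toGen _ y u)
      rw [← toGen_stalkMap, hu, RankOne.toGen_spec]
    rw [toGen_stalkMap]
    exact congrArg _ h1.symm
  obtain ⟨g, hg⟩ := exists_hom hinjO T hT
  have hψ : _root_.ClSub.idealModι Z ≫ g = ψ := by
    refine hom_ext hinjO (LinearMap.ext fun v => ?_)
    rw [H18.ExtIdeal.stalkMap_comp, hg]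
    exact congrArg (RefHull.stalkMapₗ ψ η) (eη.symm_apply_apply v)
  obtain ⟨r, hr⟩ := H3.Scalars.exists_scalarEnd_eq
    (M := Coh.structureModule X) (ParaF.Pair.isInvertible_structureModule X) g
  have heval : ∀ (U : X.affineOpens) (m : Γ(_root_.ClSub.idealMod Z, U.1)),
      (_root_.ClSub.idealModι Z').app U.1 (e.hom.app U.1 m) =
        TwSh.resTop X U.1 r * (show Γ(X, U.1) from (_root_.ClSub.idealModι Z).app U.1 m) := fun U m => by
    show ψ.app U.1 m = _
    rw [← hψ, hr]
    rfl
  have hle : Z' ≤ Z := fun U t ht => by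
    obtain ⟨m, rfl⟩ := (ClSub.Sections.mem_range_idealModι_app_affine_iff Z' U t).2 ht
    have := heval U (e.inv.app U.1 m)
    rw [show e.hom.app U.1 (e.inv.app U.1 m) = m from congr($(e.inv_hom_id).app U.1 m)] at this
    rw [this]
    exact Ideal.mul_mem_left _ _ ((ClSub.Sections.mem_range_idealModι_app_affine_iff Z U _).1 ⟨_, rfl⟩)
  suffices hu : IsUnit r by
    refine le_antisymm (fun U t ht => ?_) hle
    obtain ⟨m, rfl⟩ := (ClSub.Sections.mem_range_idealModι_app_affine_iff Z U t).2 ht
    have h2 : (show Γ(X, U.1) from (_root_.ClSub.idealModι Z').app U.1 (e.hom.app U.1 m)) ∈ Z'.ideal U :=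
      (ClSub.Sections.mem_range_idealModι_app_affine_iff Z' U _).1 ⟨_, rfl⟩
    rw [heval] at h2
    exact (Ideal.unit_mul_mem_iff_mem _ (hu.map (TwSh.resTop X U.1))).1 h2
  by_contra hu
  have hr0 : r = 0 := by
    by_contra hr0
    exact hu (Curves.SubUnion.isUnit_of_ne_zero k r hr0)
  have hψ0 : ψ = 0 := Modules.AffineHom.hom_ext_affine fun U m => by
    show (_root_.ClSub.idealModι Z').app U.1 (e.hom.app U.1 m) = _
    rw [heval, hr0, map_zero, zero_mul, Scheme.Modules.Hom.zero_app]
    rfl
  haveI : Mono (_root_.ClSub.idealModι Z') := inferInstanceAs (Mono (kernel.ι _))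
  haveI : Mono ψ := inferInstanceAs (Mono (e.hom ≫ _root_.ClSub.idealModι Z'))
  have h1 := H73.IdealEnd.finrank_stalk_idealMod hne
  haveI : Subsingleton ((_root_.ClSub.idealMod Z).presheaf.stalk η) := by
    by_contra hs
    have hη : η ∈ CohB1.support (_root_.ClSub.idealMod Z) := hs
    rw [Modules.Support.support_eq_empty_iff.2 (IsZero.of_mono_eq_zero _ hψ0)] at hη
    exact hη
  rw [Module.finrank_zero_of_subsingleton] at h1
  exact zero_ne_one h1

end Groth.Agent.H53IdHom
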